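import Mathlib.Topology.Sober
import Groth.Prelude.Def_W4stktopologysheavesDim
import Groth.Agent.Ega4A.CatOrder
import Groth.Agent.Ega4B.CatHeight

/-!
# Catenary spaces and catenary partial orders
-/

set_option autoImplicit false

namespace Groth.Agent.Props.K593.CatSpace

universe u v

open Groth.Agent.Ega4A.CatOrder Groth.Agent.Ega4B.CatHeight TopologicalSpace

section Order

variable {α : Type u} {β : Type v} [PartialOrder α] [PartialOrder β]

theorem rlen_ne_top_of_cat (h : Cat α) {p q : α} (hpq : p ≤ q) : rlen p q ≠ ⊤ := by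
  obtain ⟨n, hn⟩ := h.1 p q hpq
  refine ne_top_of_le_ne_top (ENat.coe_ne_top n) ?_
  rw [rlen_le_iff]
  intro s h1 h2
  exact_mod_cast hn s h1 h2

theorem cat_additive (h : Cat α) {p q r : α} (h1 : p ≤ q) (h2 : q ≤ r) :
    rlen p r = rlen p q + rlen q r :=
  rlen_additive_of_sat (fun _ _ => rlen_ne_top_of_cat h) (fun s t a b c d => h.2 s t a b c d) h1 h2

theorem cat_iff_additive :
    Cat α ↔ (∀ p q : α, p ≤ q → rlen p q ≠ ⊤) ∧
      ∀ p q r : α, p ≤ q → q ≤ r → rlen p r = rlen p q + rlen q r := by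
  refine ⟨fun h => ⟨fun p q => rlen_ne_top_of_cat h, fun p q r => cat_additive h⟩, fun h => ?_⟩
  refine ⟨fun p q hpq => ?_, fun s t h1 h2 h3 h4 => ?_⟩
  · obtain ⟨n, hn⟩ := ENat.ne_top_iff_exists.mp (h.1 p q hpq)
    refine ⟨n, fun s h1 h2 => ?_⟩
    have := le_rlen s h1 h2
    rw [← hn] at this
    exact_mod_cast this
  · have e1 := length_eq_rlen_of_additive h.2 s h3
    have e2 := length_eq_rlen_of_additive h.2 t h4
    rw [h1, h2, ← e2] at e1
    exact_mod_cast e1

theorem cat_iff_length :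
    Cat α ↔ ∀ p q : α, p ≤ q → rlen p q ≠ ⊤ ∧
      ∀ s : LTSeries α, s.head = p → s.last = q →
        (∀ i : Fin s.length, s (Fin.castSucc i) ⋖ s (Fin.succ i)) → (s.length : ℕ∞) = rlen p q := by
  constructor
  · intro h p q hpq
    refine ⟨rlen_ne_top_of_cat h hpq, fun s h1 h2 h3 => ?_⟩
    rw [length_eq_rlen_of_additive (fun p q r => cat_additive h) s h3, h1, h2]
  · intro h
    refine ⟨fun p q hpq => ?_, fun s t h1 h2 h3 h4 => ?_⟩
    · obtain ⟨n, hn⟩ := ENat.ne_top_iff_exists.mp (h p q hpq).1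
      refine ⟨n, fun s h1 h2 => ?_⟩
      have := le_rlen s h1 h2
      rw [← hn] at this
      exact_mod_cast this
    · have e1 := (h t.head t.last t.head_le_last).2 s h1 h2 h3
      have e2 := (h t.head t.last t.head_le_last).2 t rfl rfl h4
      rw [← e2] at e1
      exact_mod_cast e1

/-- Reversing a strict chain. -/
def rev (s : LTSeries αᵒᵈ) : LTSeries α where
  length := s.length
  toFun i := OrderDual.ofDual (s i.rev)
  step i := by
    have h : s (Fin.castSucc i.rev) < s (Fin.succ i.rev) := s.step i.rev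
    rw [← Fin.rev_succ, ← Fin.rev_castSucc] at h
    exact h

theorem rev_head (s : LTSeries αᵒᵈ) : (rev s).head = OrderDual.ofDual s.last := by
  change OrderDual.ofDual (s (Fin.rev 0)) = _
  rw [Fin.rev_zero]
  rfl

theorem rev_last (s : LTSeries αᵒᵈ) : (rev s).last = OrderDual.ofDual s.head := by
  change OrderDual.ofDual (s (Fin.rev (Fin.last _))) = _
  rw [Fin.rev_last]
  rfl

theorem sat_rev (s : LTSeries αᵒᵈ) (h : Sat s) : Sat (rev s) := by
  intro i
  have h' : s (Fin.castSucc (Fin.rev (n := s.length) i)) ⋖ s (Fin.succ (Fin.rev (n := s.length) i)) :=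
    h (Fin.rev (n := s.length) i)
  rw [← Fin.rev_succ, ← Fin.rev_castSucc] at h'
  exact h'.ofDual

theorem cat_dual (h : Cat α) : Cat αᵒᵈ := by
  refine ⟨fun p q hpq => ?_, fun s t h1 h2 h3 h4 => ?_⟩
  · obtain ⟨n, hn⟩ := h.1 (OrderDual.ofDual q) (OrderDual.ofDual p) hpq
    exact ⟨n, fun s hs ht => hn (rev s) (by rw [rev_head, ht]) (by rw [rev_last, hs])⟩
  · exact h.2 (rev s) (rev t) (by rw [rev_head, rev_head, h2]) (by rw [rev_last, rev_last, h1])
      (sat_rev s h3) (sat_rev t h4)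

theorem cat_dual_iff : Cat αᵒᵈ ↔ Cat α :=
  ⟨fun h => cat_dual (α := αᵒᵈ) h, cat_dual⟩

theorem cat_congr (e : α ≃o β) : Cat α ↔ Cat β :=
  ⟨fun h => h.of_orderIso e.symm, fun h => h.of_orderIso e⟩

theorem cat_Ici (h : Cat α) (x : α) : Cat (Set.Ici x) :=
  h.of_orderEmbedding (OrderEmbedding.subtype _) (by
    have : Set.range (OrderEmbedding.subtype (fun y => y ∈ Set.Ici x)) = Set.Ici x :=
      Subtype.range_coe
    rw [this]
    exact Set.ordConnected_Ici)

theorem cat_of_Ici (h : ∀ x : α, Cat (Set.Ici x)) : Cat α := by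
  have key : ∀ (p q : α) (hpq : p ≤ q) (s : LTSeries α), s.head = p → s.last = q →
      ∃ s' : LTSeries (Set.Ici p), s'.length = s.length ∧ s'.head = ⟨p, le_refl p⟩ ∧
        s'.last = ⟨q, hpq⟩ ∧ (Sat s → Sat s') := by
    intro p q hpq s hs ht
    subst hs ht
    refine ⟨{ length := s.length
              toFun := fun i ↦ ⟨s i, s.head_le i⟩
              step := fun i ↦ s.step i }, rfl, rfl, rfl, fun hs i => ?_⟩
    exact ⟨s.step i, fun c h1 h2 => (hs i).2 (c := c.1) h1 h2⟩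
  refine ⟨fun p q hpq => ?_, fun s t h1 h2 h3 h4 => ?_⟩
  · obtain ⟨n, hn⟩ := (h p).1 ⟨p, le_refl p⟩ ⟨q, hpq⟩ hpq
    refine ⟨n, fun s hs ht => ?_⟩
    obtain ⟨s', e1, e2, e3, -⟩ := key p q hpq s hs ht
    rw [← e1]
    exact hn s' e2 e3
  · obtain ⟨s', e1, e2, e3, e4⟩ := key _ _ s.head_le_last s rfl rfl
    obtain ⟨t', f1, f2, f3, f4⟩ := key _ _ s.head_le_last t h1.symm h2.symm
    rw [← e1, ← f1]
    exact (h s.head).2 s' t' (by rw [e2, f2]) (by rw [e3, f3]) (e4 h3) (f4 h4)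

theorem cat_iff_Ici : Cat α ↔ ∀ x : α, Cat (Set.Ici x) :=
  ⟨cat_Ici, cat_of_Ici⟩

/-- If every element is above some `f i`, it is enough to check the cones above the `f i`. -/
theorem cat_iff_of_cofinal {ι : Sort*} (f : ι → α) (hf : ∀ x : α, ∃ i, f i ≤ x) :
    Cat α ↔ ∀ i, Cat (Set.Ici (f i)) := by
  refine ⟨fun h i => cat_Ici h _, fun h => cat_of_Ici fun x => ?_⟩
  obtain ⟨i, hi⟩ := hf x
  refine (h i).of_orderEmbedding
    (OrderEmbedding.ofMapLEIff (fun y : Set.Ici x => (⟨y.1, hi.trans y.2⟩ : Set.Ici (f i)))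
      (fun _ _ => Iff.rfl)) ?_
  refine ⟨fun a ha b hb c hc => ?_⟩
  obtain ⟨a, rfl⟩ := ha
  exact ⟨⟨c.1, a.2.trans hc.1⟩, rfl⟩

end Order

section Top

variable {X : Type u} [TopologicalSpace X]

theorem codim_eq_rlen {T T' : IrreducibleCloseds X} (h : T ≤ T') :
    PtTop.codim T (T' : Set X) = rlen T T' := by
  apply le_antisymm
  · refine iSup₂_le fun s hs => ?_
    have h1 : (s.length : ℕ∞) ≤ rlen T s.last := le_rlen s hs.1 rfl
    have h2 : s.last ≤ T' := hs.2
    have h3 : T ≤ s.last := hs.1 ▸ s.head_le_last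
    exact h1.trans (le_self_add.trans (rlen_add_le h3 h2))
  · rw [rlen_le_iff]
    intro s h1 h2
    exact le_iSup₂_of_le (f := fun (s : LTSeries (IrreducibleCloseds X))
      (_ : s.head = T ∧ (s.last : Set X) ⊆ T') ↦ (s.length : ℕ∞)) s ⟨h1, h2.le⟩ le_rfl

theorem isCatenarySpace_iff_cat : PtTop.IsCatenarySpace X ↔ Cat (IrreducibleCloseds X) := by
  rw [cat_iff_length]
  refine forall_congr' fun T => forall_congr' fun T' => forall_congr' fun h => ?_
  rw [codim_eq_rlen h]

/-- The irreducible closed set `closure {x}`. -/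
def cl (x : X) : IrreducibleCloseds X :=
  ⟨closure {x}, isIrreducible_singleton.closure, isClosed_closure⟩

theorem cl_le_cl {x y : X} : cl x ≤ cl y ↔ y ⤳ x :=
  specializes_iff_closure_subset.symm

theorem exists_cl_eq [QuasiSober X] (T : IrreducibleCloseds X) : ∃ x, cl x = T := by
  obtain ⟨x, hx⟩ := QuasiSober.sober T.isIrreducible T.isClosed
  exact ⟨x, IrreducibleCloseds.ext hx⟩

/-- In a sober space, the cone above `closure {x}` is the dual of the set of generizations. -/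
theorem cat_Ici_cl_iff [QuasiSober X] {Y : Type v} [TopologicalSpace Y]
    [PartialOrder Y] (hY : ∀ y z : Y, y ≤ z ↔ y ⤳ z) (g : Y → X) (hg : Topology.IsInducing g)
    (x : X) (hx : Set.range g = {y | y ⤳ x}) :
    Cat (Set.Ici (cl x)) ↔ Cat Y := by
  rw [← cat_dual_iff (α := Y)]
  have hmem : ∀ y : Y, g y ⤳ x := fun y => by
    have : g y ∈ Set.range g := ⟨y, rfl⟩
    rw [hx] at this
    exact this
  let F : Yᵒᵈ ↪o Set.Ici (cl x) :=
    OrderEmbedding.ofMapLEIff (fun y => ⟨cl (g (OrderDual.ofDual y)), cl_le_cl.mpr (hmem _)⟩)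
      (fun a b => by
        change cl _ ≤ cl _ ↔ OrderDual.ofDual b ≤ OrderDual.ofDual a
        rw [cl_le_cl, hg.specializes_iff, hY])
  have hF : Function.Surjective F := by
    rintro ⟨T, hT⟩
    obtain ⟨z, rfl⟩ := exists_cl_eq T
    have hz : z ∈ Set.range g := by
      rw [hx]
      exact cl_le_cl.mp hT
    obtain ⟨y, rfl⟩ := hz
    exact ⟨OrderDual.toDual y, rfl⟩
  exact (cat_congr (RelIso.ofSurjective F hF)).symm

theorem isCatenarySpace_iff_cl [QuasiSober X] :
    PtTop.IsCatenarySpace X ↔ ∀ x : X, Cat (Set.Ici (cl x)) := by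
  rw [isCatenarySpace_iff_cat]
  refine cat_iff_of_cofinal _ fun T => ?_
  obtain ⟨x, rfl⟩ := exists_cl_eq T
  exact ⟨x, le_rfl⟩

end Top

end Groth.Agent.Props.K593.CatSpace
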