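import Mathlib.AlgebraicGeometry.Stalk
import Mathlib.AlgebraicGeometry.Noetherian
import Mathlib.AlgebraicGeometry.Morphisms.Preimmersion
import Groth.Agent.Props.K593.CatSpace

/-!
# Catenary schemes: stalks and affine opens
-/

set_option autoImplicit false

namespace Groth.Agent.Props.K593.CatScheme

universe u v

open Groth.Agent.Ega4A.CatOrder Groth.Agent.Ega4B.CatHeight TopologicalSpace CategoryTheory
  AlgebraicGeometry CatSpace

theorem isCatenary_congr {R S : Type u} [CommRing R] [CommRing S] (e : R ≃+* S) :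
    CAlg.IsCatenary R ↔ CAlg.IsCatenary S := by
  rw [isCatenary_iff_cat, isCatenary_iff_cat]
  exact cat_congr (PrimeSpectrum.comapEquiv e)

theorem isCatenary_iff_isCatenarySpace (R : Type u) [CommRing R] :
    CAlg.IsCatenary R ↔ PtTop.IsCatenarySpace (PrimeSpectrum R) := by
  rw [isCatenary_iff_cat, isCatenarySpace_iff_cat,
    cat_congr (PrimeSpectrum.pointsEquivIrreducibleCloseds R)]
  exact cat_dual_iff

theorem cat_Ici_cl_iff_stalk (X : Scheme.{u}) (x : X) :
    Cat (Set.Ici (cl x)) ↔ CAlg.IsCatenary (X.presheaf.stalk x) := by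
  rw [isCatenary_iff_cat]
  exact cat_Ici_cl_iff (Y := PrimeSpectrum (X.presheaf.stalk x)) PrimeSpectrum.le_iff_specializes
    (X.fromSpecStalk x) (X.fromSpecStalk x).isEmbedding.isInducing x
    (Scheme.range_fromSpecStalk)

theorem isCatenarySpace_iff_stalk (X : Scheme.{u}) :
    PtTop.IsCatenarySpace X ↔ ∀ x : X, CAlg.IsCatenary (X.presheaf.stalk x) := by
  rw [isCatenarySpace_iff_cl]
  exact forall_congr' fun x => cat_Ici_cl_iff_stalk X x

theorem isCatenary_stalk_iff_of_isOpenImmersion {X Y : Scheme.{u}} (f : X ⟶ Y)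
    [IsOpenImmersion f] (x : X) :
    CAlg.IsCatenary (Y.presheaf.stalk (f x)) ↔ CAlg.IsCatenary (X.presheaf.stalk x) :=
  isCatenary_congr (asIso (f.stalkMap x)).commRingCatIsoToRingEquiv

theorem isCatenary_iff_of_isAffineOpen {X : Scheme.{u}} {U : X.Opens} (hU : IsAffineOpen U) :
    CAlg.IsCatenary Γ(X, U) ↔ ∀ x ∈ U, CAlg.IsCatenary (X.presheaf.stalk x) := by
  rw [isCatenary_iff_isCatenarySpace]
  have h : PtTop.IsCatenarySpace (Spec Γ(X, U)) ↔
      ∀ y : Spec Γ(X, U), CAlg.IsCatenary ((Spec Γ(X, U)).presheaf.stalk y) :=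
    isCatenarySpace_iff_stalk (Spec Γ(X, U))
  change PtTop.IsCatenarySpace (Spec Γ(X, U)) ↔ _
  rw [h]
  constructor
  · intro h x hx
    have : x ∈ Set.range hU.fromSpec := by
      rw [hU.range_fromSpec]
      exact hx
    obtain ⟨y, rfl⟩ := this
    exact (isCatenary_stalk_iff_of_isOpenImmersion hU.fromSpec y).mpr (h y)
  · intro h y
    rw [← isCatenary_stalk_iff_of_isOpenImmersion hU.fromSpec y]
    refine h _ ?_
    have : hU.fromSpec y ∈ Set.range hU.fromSpec := ⟨y, rfl⟩
    rw [hU.range_fromSpec] at this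
    exact this

theorem isCatenarySpace_of_isOpenImmersion {X Y : Scheme.{u}} (f : X ⟶ Y)
    [IsOpenImmersion f] (h : PtTop.IsCatenarySpace Y) : PtTop.IsCatenarySpace X := by
  rw [isCatenarySpace_iff_stalk] at h ⊢
  exact fun x => (isCatenary_stalk_iff_of_isOpenImmersion f x).mp (h _)

end Groth.Agent.Props.K593.CatScheme
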