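import Groth.Agent.Ega1.SubOfMono
import Groth.Agent.Ega1.QcqsPush
import Groth.Prelude.Def_CohB1

/-!
# Extension of quasi-coherent modules of finite type from quasi-compact opens (qcqs case)
-/

set_option autoImplicit false

universe u

open CategoryTheory CategoryTheory.Limits AlgebraicGeometry TopologicalSpace Opposite

namespace K593.ExtSub

variable {X : Scheme.{u}}

/-- On a quasi-compact quasi-separated scheme, a quasi-coherent subsheaf of finite type over a
quasi-compact open of a quasi-coherent module extends to a quasi-coherent subsheaf of finite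
type. -/
theorem exists_extension_subsheaf [CompactSpace X] [QuasiSeparatedSpace X] (U : X.Opens)
    (hU : IsCompact (U : Set X)) (F : X.Modules) [Coh.IsQCoh F]
    (G : (U : Scheme.{u}).Modules) (i : G ⟶ F.restrict U.ι) [Mono i]
    [Coh.IsQCoh G] (hG : CohB1.IsFT G) :
    ∃ (G' : X.Modules) (i' : G' ⟶ F) (e : G'.restrict U.ι ≅ G), Mono i' ∧ Coh.IsQCoh G' ∧
      CohB1.IsFT G' ∧ e.hom ≫ i = (Scheme.Modules.restrictFunctor U.ι).map i' := by
  obtain ⟨N', hag, hN'⟩ := Groth.Agent.Ega1.SubExtMain.exists_extension_qcqs (M := F)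
    (N := Groth.Agent.Ega1.SubOfMono.ofMono i) (V := U.ι.opensRange)
    (by rw [Scheme.Opens.opensRange_ι]; exact hU)
    (fun x hx ↦ Groth.Agent.Ega1.SubOfMono.goodAt_ofMono hG i hx)
  obtain ⟨e, he⟩ := Groth.Agent.Ega1.SubOfMono.exists_of_agree i N' hag
  obtain ⟨h1, h2⟩ := Groth.Agent.Ega1.SubExtMain.isQuasicoherent_of_good hN'
  exact ⟨N'.toModules, N'.ι, e, inferInstance, h1, h2, he⟩

/-- A quasi-coherent module of finite type on a quasi-compact open extends. -/
theorem exists_extension [CompactSpace X] [QuasiSeparatedSpace X] (U : X.Opens)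
    (hU : IsCompact (U : Set X)) (G : (U : Scheme.{u}).Modules)
    [Coh.IsQCoh G] (hG : CohB1.IsFT G) :
    ∃ G' : X.Modules, Coh.IsQCoh G' ∧ CohB1.IsFT G' ∧ Nonempty (G'.restrict U.ι ≅ G) := by
  have hc : CompactSpace (U : Scheme.{u}) := isCompact_iff_compactSpace.mp hU
  have : QuasiCompact U.ι := inferInstance
  let F := (Scheme.Modules.pushforward U.ι).obj G
  have hF : Coh.IsQCoh F := Groth.Agent.Ega1.QcqsPush.isQCoh_pushforward U.ι G ‹_›
  let c : F.restrict U.ι ≅ G := (asIso (Scheme.Modules.restrictAdjunction U.ι).counit).app G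
  obtain ⟨G', i', e, -, h1, h2, -⟩ := exists_extension_subsheaf U hU F G c.inv hG
  exact ⟨G', h1, h2, ⟨e⟩⟩

end K593.ExtSub
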