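import Mathlib.Topology.NoetherianSpace
import Groth.Agent.Props.K593.CatSpace

/-!
# Existence of local dimension functions on Noetherian sober catenary spaces
-/

set_option autoImplicit false

namespace Groth.Agent.Props.K593.DimFun

universe u v

open Groth.Agent.Ega4A.CatOrder Groth.Agent.Ega4B.CatHeight TopologicalSpace CatSpace

variable {Y : Type u} [TopologicalSpace Y]

theorem exists_nhd [NoetherianSpace Y] [QuasiSober Y] (C : Set Y) (hC : IsClosed C) (x : Y) :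
    ∃ V : Set Y, IsOpen V ∧ x ∈ V ∧ ∃ W : Set Y, W.Finite ∧ (∀ w ∈ W, w ∈ C ∧ w ⤳ x) ∧
      ∀ z ∈ V, z ∈ C → ∃ w ∈ W, w ⤳ z := by
  obtain ⟨S, hfin, hcl, hirr, hS⟩ := NoetherianSpace.exists_finite_set_isClosed_irreducible hC
  have hgen : ∀ t ∈ S, ∃ w : Y, closure {w} = t := fun t ht => by
    obtain ⟨w, hw⟩ := QuasiSober.sober (hirr t ht) (hcl t ht)
    exact ⟨w, hw⟩
  choose g hg using hgen
  refine ⟨(⋃ t ∈ {t | t ∈ S ∧ x ∉ t}, t)ᶜ, ?_, ?_, {w | ∃ t, ∃ ht : t ∈ S, g t ht = w} ∩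
    {w | w ⤳ x}, ?_, ?_, ?_⟩
  · rw [isOpen_compl_iff]
    exact Set.Finite.isClosed_biUnion (hfin.subset fun t ht => ht.1) fun t ht => hcl t ht.1
  · intro hx
    simp only [Set.mem_iUnion] at hx
    obtain ⟨t, ht, hx⟩ := hx
    exact ht.2 hx
  · exact Set.Finite.subset (hfin.dependent_image g) Set.inter_subset_left
  · rintro w ⟨⟨t, ht, rfl⟩, hw⟩
    refine ⟨?_, hw⟩
    rw [hS]
    refine ⟨t, ht, ?_⟩
    have := subset_closure (s := {g t ht}) rfl
    rwa [hg] at this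
  · intro z hz hzC
    rw [hS] at hzC
    obtain ⟨t, ht, hzt⟩ := hzC
    have hx : x ∈ t := by
      by_contra hx
      refine hz ?_
      simp only [Set.mem_iUnion]
      exact ⟨t, ⟨ht, hx⟩, hzt⟩
    refine ⟨g t ht, ⟨⟨t, ht, rfl⟩, ?_⟩, ?_⟩
    · change g t ht ⤳ x
      rw [specializes_iff_mem_closure, hg]; exact hx
    · rw [specializes_iff_mem_closure, hg]; exact hzt

/-- the relative height between two points -/
noncomputable def rl (z y : Y) : ℤ := ((rlen (cl z) (cl y)).toNat : ℤ)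

theorem rl_add (h : Cat (IrreducibleCloseds Y)) {a b c : Y} (h1 : c ⤳ b) (h2 : b ⤳ a) :
    rl a c = rl a b + rl b c := by
  have e1 : cl a ≤ cl b := cl_le_cl.mpr h2
  have e2 : cl b ≤ cl c := cl_le_cl.mpr h1
  unfold rl
  rw [cat_additive h e1 e2, ENat.toNat_add (rlen_ne_top_of_cat h e1) (rlen_ne_top_of_cat h e2)]
  push_cast
  rfl

/-- A Noetherian sober catenary space has local dimension functions. -/
theorem exists_dimFun [NoetherianSpace Y] [QuasiSober Y] (h : Cat (IrreducibleCloseds Y)) (x : Y) :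
    ∃ V : Set Y, IsOpen V ∧ x ∈ V ∧ ∃ δ : Y → ℤ, ∀ y z : Y, z ∈ V → y ⤳ z →
      δ y - δ z = rl z y := by
  classical
  obtain ⟨V0, hV0, hx0, W0, hW0, hW0x, hW0c⟩ := exists_nhd (Set.univ : Set Y) isClosed_univ x
  have key : ∀ p : Y × Y, ∃ V : Set Y, IsOpen V ∧ x ∈ V ∧ ∀ z ∈ V, p.1 ⤳ z → p.2 ⤳ z →
      ∃ w, p.1 ⤳ w ∧ p.2 ⤳ w ∧ w ⤳ x ∧ w ⤳ z := by
    intro p
    obtain ⟨V, hV, hxV, W, -, hWx, hWc⟩ := exists_nhd (closure {p.1} ∩ closure {p.2})
      (isClosed_closure.inter isClosed_closure) x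
    refine ⟨V, hV, hxV, fun z hz h1 h2 => ?_⟩
    obtain ⟨w, hw, hwz⟩ := hWc z hz ⟨specializes_iff_mem_closure.mp h1,
      specializes_iff_mem_closure.mp h2⟩
    obtain ⟨⟨e1, e2⟩, e3⟩ := hWx w hw
    exact ⟨w, specializes_iff_mem_closure.mpr e1, specializes_iff_mem_closure.mpr e2, e3, hwz⟩
  choose V hV hxV hVc using key
  let d : Y → Y → ℤ := fun w z => rl x w - rl z w
  let δ : Y → ℤ := fun z => if hz : ∃ w ∈ W0, w ⤳ z then d hz.choose z else 0
  have claim : ∀ z ∈ (⋂ p ∈ W0 ×ˢ W0, V p), ∀ w ∈ W0, w ⤳ z → δ z = d w z := by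
    intro z hz w hw hwz
    have hex : ∃ w ∈ W0, w ⤳ z := ⟨w, hw, hwz⟩
    have e : δ z = d hex.choose z := by
      simp only [δ]
      rw [dif_pos hex]
    rw [e]
    obtain ⟨hw', hwz'⟩ := hex.choose_spec
    generalize hex.choose = w' at hw' hwz'
    simp only [Set.mem_iInter] at hz
    obtain ⟨v, h1, h2, h3, h4⟩ := hVc (w, w') z (hz (w, w') ⟨hw, hw'⟩) hwz hwz'
    simp only [d]
    rw [rl_add h h1 h3, rl_add h h1 h4, rl_add h h2 h3, rl_add h h2 h4]
    ring
  have hopen : IsOpen (⋂ p ∈ W0 ×ˢ W0, V p) :=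
    (hW0.prod hW0).isOpen_biInter fun p _ => hV p
  refine ⟨V0 ∩ ⋂ p ∈ W0 ×ˢ W0, V p, hV0.inter hopen, ⟨hx0, ?_⟩, δ, ?_⟩
  · simp only [Set.mem_iInter]
    exact fun p _ => hxV p
  · intro y z hz hyz
    have hy : y ∈ V0 ∩ ⋂ p ∈ W0 ×ˢ W0, V p := hyz.mem_open (hV0.inter hopen) hz
    obtain ⟨w, hw, hwy⟩ := hW0c y hy.1 trivial
    rw [claim y hy.2 w hw hwy, claim z hz.2 w hw (hwy.trans hyz)]
    simp only [d]
    rw [rl_add h hwy hyz]
    ring

/-- The same, in terms of `PtTop.IsDimensionFunction`. -/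
theorem exists_isDimensionFunction [T0Space Y] [NoetherianSpace Y] [QuasiSober Y]
    (h : PtTop.IsCatenarySpace Y) (x : Y) :
    ∃ V : Set Y, IsOpen V ∧ x ∈ V ∧ ∃ δ : Y → ℤ,
      (∀ y z : Y, z ∈ V → y ⤳ z → y ≠ z → δ z < δ y) ∧
      (∀ y z : Y, z ∈ V → PtTop.IsImmediateSpecialization y z → δ y = δ z + 1) := by
  rw [isCatenarySpace_iff_cat] at h
  obtain ⟨V, hV, hx, δ, hδ⟩ := exists_dimFun h x
  refine ⟨V, hV, hx, δ, fun y z hz hyz hne => ?_, fun y z hz hyz => ?_⟩
  · have e := hδ y z hz hyz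
    have hle : cl z ≤ cl y := cl_le_cl.mpr hyz
    have hlt : cl z < cl y := lt_of_le_of_ne hle fun he => hne (by
      have : z ⤳ y := cl_le_cl.mp he.ge
      exact (hyz.antisymm this).eq)
    have h1 := one_le_rlen hlt
    have h2 : 1 ≤ rl z y := by
      unfold rl
      obtain ⟨n, hn⟩ := ENat.ne_top_iff_exists.mp (rlen_ne_top_of_cat h hle)
      rw [← hn] at h1 ⊢
      simp only [ENat.toNat_coe]
      exact_mod_cast h1
    omega
  · have e := hδ y z hz hyz.1
    have hcov : cl z ⋖ cl y := by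
      refine ⟨lt_of_le_of_ne (cl_le_cl.mpr hyz.1) fun he => hyz.2.1 (by
        have : z ⤳ y := cl_le_cl.mp he.ge
        exact (hyz.1.antisymm this).eq), fun T h1 h2 => ?_⟩
      obtain ⟨w, rfl⟩ := exists_cl_eq T
      rcases hyz.2.2 w (cl_le_cl.mp h2.le) (cl_le_cl.mp h1.le) with rfl | rfl
      · exact lt_irrefl _ h2
      · exact lt_irrefl _ h1
    have h2 : rl z y = 1 := by
      unfold rl
      rw [rlen_eq_one_of_covBy hcov]
      rfl
    omega

/-- A partial order with an integer valued rank function is catenary. -/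
theorem cat_of_dimFun {α : Type u} [PartialOrder α] (δ : α → ℤ)
    (h1 : ∀ p q : α, p < q → δ p < δ q) (h2 : ∀ p q : α, p ⋖ q → δ q = δ p + 1) : Cat α := by
  have k1 : ∀ s : LTSeries α, (s.length : ℤ) + δ s.head ≤ δ s.last := by
    intro s
    induction s using RelSeries.inductionOn' with
    | singleton x => simp
    | snoc p x hx ih =>
      have := h1 _ _ hx
      simp only [RelSeries.snoc_length, RelSeries.last_snoc, RelSeries.head_snoc]
      push_cast
      omega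
  have k2 : ∀ s : CovSeries α, (s.length : ℤ) + δ s.head = δ s.last := by
    intro s
    induction s using RelSeries.inductionOn' with
    | singleton x => simp
    | snoc p x hx ih =>
      have := h2 _ _ hx
      simp only [RelSeries.snoc_length, RelSeries.last_snoc, RelSeries.head_snoc]
      push_cast
      omega
  refine Cat.mk' (fun p q hpq => ⟨(δ q - δ p).toNat, fun s hs ht => ?_⟩) (fun s t hs ht => ?_)
  · have := k1 s
    rw [hs, ht] at this
    omega
  · have e1 := k2 s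
    have e2 := k2 t
    rw [hs, ht] at e1
    omega

/-- If an open neighbourhood of `x` in a sober space has a dimension function, then the cone above
`closure {x}` is catenary. -/
theorem cat_Ici_of_isDimensionFunction [T0Space Y] [QuasiSober Y] (U : Set Y) (hU : IsOpen U)
    (δ : U → ℤ) (hδ : PtTop.IsDimensionFunction δ) (x : Y) (hx : x ∈ U) :
    Cat (Set.Ici (cl x)) := by
  have hgen : ∀ T : Set.Ici (cl x), ∃ z : U, cl z.1 = T.1 := by
    rintro ⟨T, hT⟩
    obtain ⟨z, rfl⟩ := exists_cl_eq T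
    exact ⟨⟨z, (cl_le_cl.mp hT).mem_open hU hx⟩, rfl⟩
  choose g hg using hgen
  have hsp : ∀ S T : Set.Ici (cl x), S ≤ T ↔ g T ⤳ g S := fun S T => by
    rw [Topology.IsInducing.subtypeVal.specializes_iff.symm, ← cl_le_cl, hg, hg]
    rfl
  have hinj : ∀ S T : Set.Ici (cl x), g S = g T → S = T := fun S T h =>
    Subtype.ext (by rw [← hg S, ← hg T, h])
  have hlt : ∀ S T : Set.Ici (cl x), S < T → δ (g S) < δ (g T) := fun S T h =>
    hδ.1 _ _ ((hsp S T).mp h.le) fun he => h.ne (hinj S T he.symm)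
  refine cat_of_dimFun (fun T => δ (g T)) hlt fun S T h => ?_
  refine hδ.2 _ _ ⟨(hsp S T).mp h.le, fun he => h.lt.ne (hinj S T he.symm), fun z h1 h2 => ?_⟩
  have hSz : S.1 ≤ cl z.1 := by
    rw [← hg S, cl_le_cl]
    exact h2.map continuous_subtype_val
  let R : Set.Ici (cl x) := ⟨cl z.1, S.2.trans hSz⟩
  have hR : g R = z := by
    have e : cl (g R).1 = cl z.1 := hg R
    have e1 : z.1 ⤳ (g R).1 := cl_le_cl.mp e.le
    have e2 : (g R).1 ⤳ z.1 := cl_le_cl.mp e.ge
    exact Subtype.ext (e2.antisymm e1).eq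
  have hSR : S ≤ R := (hsp S R).mpr (by rw [hR]; exact h2)
  have hRT : R ≤ T := (hsp R T).mpr (by rw [hR]; exact h1)
  rcases h.eq_or_eq hSR hRT with he | he
  · right; rw [← hR, he]
  · left; rw [← hR, he]

end Groth.Agent.Props.K593.DimFun
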