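import Groth.Agent.Props.K593.FPQuot

/-!
# A quasi-coherent module of finite type is a directed colimit of finitely presented modules with
surjective transition maps
-/

set_option autoImplicit false
universe u

open CategoryTheory CategoryTheory.Limits AlgebraicGeometry Opposite TopologicalSpace

namespace K593.FPColim

open Groth.Agent

variable {X : Scheme.{u}}

section Fin

variable {ι : Type u} {K : X.Modules} (P : ι → X.Modules) (φ : ∀ i, P i ⟶ K)
  (hP : ∀ i, CohB1.IsFP (P i))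

include hP in
theorem exists_finset (T : Finset ι) : ∃ (A : X.Modules) (ψ : A ⟶ K), CohB1.IsFP A ∧
    (∀ i ∈ T, ∃ b : P i ⟶ A, b ≫ ψ = φ i) ∧
    ∀ (Z : X.Modules) (g : K ⟶ Z), (∀ i ∈ T, φ i ≫ g = 0) → ψ ≫ g = 0 := by
  classical
  induction T using Finset.induction_on with
  | empty => exact ⟨Coh.structureModule X, 0, Smoothlim.FPMod.isFP_unit, by simp,
      fun _ _ _ => zero_comp⟩
  | insert a T ha ih =>
    obtain ⟨A, ψ, hA, h1, h2⟩ := ih
    refine ⟨P a ⨿ A, coprod.desc (φ a) ψ, Smoothlim.FPMod.isFP_coprod (hP a) hA, ?_, ?_⟩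
    · intro i hi
      rcases Finset.mem_insert.1 hi with rfl | hi
      · exact ⟨coprod.inl, coprod.inl_desc _ _⟩
      · obtain ⟨b, hb⟩ := h1 i hi
        exact ⟨b ≫ coprod.inr, by rw [Category.assoc, coprod.inr_desc, hb]⟩
    · intro Z g hg
      apply coprod.hom_ext
      · rw [← Category.assoc, coprod.inl_desc, comp_zero]
        exact hg a (Finset.mem_insert_self _ _)
      · rw [← Category.assoc, coprod.inr_desc, comp_zero]
        exact h2 Z g fun i hi => hg i (Finset.mem_insert_of_mem hi)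

end Fin

section Sys

variable {ι : Type u} {G F : X.Modules} (p : G ⟶ F) (A : Finset ι → X.Modules)
  (ψ : ∀ T, A T ⟶ kernel p)
  (h : ∀ T T' : Finset ι, T ≤ T' → ψ T ≫ kernel.ι p ≫ cokernel.π (ψ T' ≫ kernel.ι p) = 0)

/-- The system of quotients. -/
noncomputable def sys : Finset ι ⥤ X.Modules where
  obj T := cokernel (ψ T ≫ kernel.ι p)
  map {T T'} f := cokernel.desc _ (cokernel.π (ψ T' ≫ kernel.ι p))
    (by rw [Category.assoc]; exact h T T' (leOfHom f))
  map_id T := by
    apply coequalizer.hom_ext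
    exact (cokernel.π_desc _ _ _).trans (Category.comp_id _).symm
  map_comp {T T' T''} f g := by
    apply coequalizer.hom_ext
    refine (cokernel.π_desc _ _ _).trans ?_
    refine Eq.symm ?_
    refine ((Category.assoc _ _ _).symm.trans ?_)
    refine (congrArg (· ≫ _) (cokernel.π_desc _ _ _)).trans ?_
    exact cokernel.π_desc _ _ _

/-- The projection to the quotient. -/
noncomputable def pr (T : Finset ι) : G ⟶ (sys p A ψ h).obj T :=
  cokernel.π (ψ T ≫ kernel.ι p)

instance epi_pr (T : Finset ι) : Epi (pr p A ψ h T) :=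
  inferInstanceAs (Epi (cokernel.π (ψ T ≫ kernel.ι p)))

@[reassoc]
theorem pr_map {T T' : Finset ι} (f : T ⟶ T') :
    pr p A ψ h T ≫ (sys p A ψ h).map f = pr p A ψ h T' :=
  cokernel.π_desc _ _ _

theorem pr_condition (T : Finset ι) : ψ T ≫ kernel.ι p ≫ pr p A ψ h T = 0 := by
  rw [← Category.assoc]
  exact cokernel.condition _

/-- The cocone on `F`. -/
noncomputable def toConst : sys p A ψ h ⟶ (Functor.const _).obj F where
  app T := FPQuot.toF p (ψ T)
  naturality T T' f := by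
    rw [← cancel_epi (pr p A ψ h T), pr_map_assoc]
    exact (FPQuot.π_toF p (ψ T')).trans ((congrArg (· ≫ 𝟙 F) (FPQuot.π_toF p (ψ T))).symm.trans
      (Category.assoc _ _ _))

@[reassoc]
theorem pr_toConst (T : Finset ι) : pr p A ψ h T ≫ (toConst p A ψ h).app T = p :=
  FPQuot.π_toF p (ψ T)

theorem epi_sys_map {T T' : Finset ι} (f : T ⟶ T') : Epi ((sys p A ψ h).map f) := by
  have : Epi (pr p A ψ h T ≫ (sys p A ψ h).map f) := by
    rw [pr_map]; infer_instance
  exact epi_of_epi (pr p A ψ h T) _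

/-- The colimit property. -/
theorem nonempty_isColimit [Epi p]
    (hall : ∀ (Z : X.Modules) (g : kernel p ⟶ Z), (∀ T, ψ T ≫ g = 0) → g = 0) :
    Nonempty (IsColimit (Cocone.mk F (toConst p A ψ h))) := by
  have key : ∀ s : Cocone (sys p A ψ h), ∃ l : F ⟶ s.pt,
      p ≫ l = pr p A ψ h ∅ ≫ s.ι.app ∅ := by
    intro s
    have h0 : kernel.ι p ≫ pr p A ψ h ∅ ≫ s.ι.app ∅ = 0 := by
      refine hall _ _ fun T => ?_
      have e : pr p A ψ h ∅ ≫ s.ι.app ∅ = pr p A ψ h T ≫ s.ι.app T := by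
        rw [← s.w (homOfLE (Finset.empty_subset T)), pr_map_assoc]
      have e2 := congrArg (· ≫ s.ι.app T) (pr_condition p A ψ h T)
      simp only [Category.assoc, zero_comp] at e2
      rw [e, e2]
    exact ⟨Abelian.epiDesc p _ h0, Abelian.comp_epiDesc _ _ _⟩
  choose l hl using key
  refine ⟨{ desc := l, fac := fun s T => ?_, uniq := fun s m hm => ?_ }⟩
  · rw [← cancel_epi (pr p A ψ h T)]
    change pr p A ψ h T ≫ (toConst p A ψ h).app T ≫ l s = _
    rw [pr_toConst_assoc, hl, ← s.w (homOfLE (Finset.empty_subset T)), pr_map_assoc]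
  · rw [← cancel_epi p, hl, ← hm ∅]
    change p ≫ m = pr p A ψ h ∅ ≫ (toConst p A ψ h).app ∅ ≫ m
    rw [pr_toConst_assoc]

end Sys

theorem exists_colimit [CompactSpace X] [QuasiSeparatedSpace X] (F : X.Modules)
    (hF : Coh.IsQCoh F) (hF' : CohB1.IsFT F) :
    ∃ (J : Type u) (_ : PartialOrder J) (_ : IsDirected J (· ≤ ·)) (_ : Nonempty J)
      (D : J ⥤ X.Modules) (ι : D ⟶ (Functor.const J).obj F),
      Nonempty (IsColimit (Cocone.mk F ι)) ∧
      (∀ j, CohB1.IsFP (D.obj j)) ∧ ∀ (j j' : J) (h : j ⟶ j'), Epi (D.map h) := by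
  obtain ⟨G, p, hG, hp⟩ := FPQuot.exists_isFP_epi F hF hF'
  have hGq := Models2.FPCoh.isQCoh_of_isFP hG
  have hK : Coh.IsQCoh (kernel p) := FPQuot.isQCoh_kernel p hGq hF
  have hex : ∀ i : (Σ V : X.affineOpens, Γ(kernel p, (V : X.Opens))),
      ∃ (P : X.Modules) (φ : P ⟶ kernel p), CohB1.IsFP P ∧ ∃ t : Γ(P, (i.1 : X.Opens)),
        φ.app i.1 t = i.2 := fun i =>
    PerfC.FTExt.exists_isFP_section (kernel p) hK i.1.2.isCompact i.2
  choose P φ hP t ht using hex
  choose A ψ hA h1 h2 using exists_finset P φ hP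
  have hcomp : ∀ T T', T ≤ T' → ψ T ≫ kernel.ι p ≫ cokernel.π (ψ T' ≫ kernel.ι p) = 0 := by
    intro T T' hTT'
    refine h2 T _ _ fun i hi => ?_
    obtain ⟨b, hb⟩ := h1 T' i (hTT' hi)
    rw [← hb, Category.assoc, ← Category.assoc (ψ T'), cokernel.condition, comp_zero]
  classical
  refine ⟨Finset (Σ V : X.affineOpens, Γ(kernel p, (V : X.Opens))), inferInstance, inferInstance,
    inferInstance, sys p A ψ hcomp, toConst p A ψ hcomp, ?_, ?_, ?_⟩
  · refine nonempty_isColimit p A ψ hcomp fun Z g hg => ?_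
    refine FormalB.ModPowAff2.eq_zero_of_affine_cover hK g fun x => ?_
    obtain ⟨V, hV, hx, -⟩ := exists_isAffineOpen_mem_and_subset (X := X) (x := x) (U := ⊤) trivial
    refine ⟨V, hx, hV, fun m => ?_⟩
    let i : (Σ V : X.affineOpens, Γ(kernel p, (V : X.Opens))) := ⟨⟨V, hV⟩, m⟩
    have e1 : φ i ≫ g = 0 := by
      obtain ⟨b, hb⟩ := h1 {i} i (Finset.mem_singleton_self i)
      rw [← hb, Category.assoc, hg, comp_zero]
    have e2 : (φ i ≫ g).app V (t i) = 0 := by rw [e1]; rfl
    have e3 : (φ i).app V (t i) = m := ht i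
    have e4 : (φ i ≫ g).app V (t i) = g.app V ((φ i).app V (t i)) := rfl
    rw [e4, e3] at e2
    exact e2
  · intro T
    exact Smoothlim.FPMod.isFP_cokernel _ (hA T) hG
  · intro T T' f
    exact epi_sys_map p A ψ hcomp f

end K593.FPColim
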