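import Groth.Agent.PerfC.FTExt
import Groth.Agent.Desc.FPSections
import Groth.Agent.Dcoh.FTFP

/-!
# Quasi-coherent modules of finite type as quotients / colimits of modules of finite presentation
-/

set_option autoImplicit false
universe u

open CategoryTheory CategoryTheory.Limits AlgebraicGeometry Opposite TopologicalSpace

namespace K593.FPQuot

open Groth.Agent

variable {X : Scheme.{u}}

theorem exists_isFP_epi [CompactSpace X] [QuasiSeparatedSpace X] (F : X.Modules)
    (hF : Coh.IsQCoh F) (hF' : CohB1.IsFT F) :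
    ∃ (G : X.Modules) (p : G ⟶ F), CohB1.IsFP G ∧ Epi p := by
  obtain ⟨G, φ, h1, h2⟩ := PerfC.FTExt.exists_isFP_epi hF hF hF' (𝟙 F)
  rw [Category.comp_id] at h2
  exact ⟨G, φ, h1, h2⟩

/-- The kernel of an epimorphism between quasi-coherent modules is quasi-coherent. -/
theorem isQCoh_kernel {G F : X.Modules} (p : G ⟶ F) (hG : Coh.IsQCoh G) (hF : Coh.IsQCoh F) :
    Coh.IsQCoh (kernel p) :=
  (CohqB.QC6.qcohProp X).prop_kernel p hG hF

section Quot

variable {P G F : X.Modules} (p : G ⟶ F) (a : P ⟶ kernel p)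

/-- The map from the quotient to `F`. -/
noncomputable def toF : cokernel (a ≫ kernel.ι p) ⟶ F :=
  cokernel.desc _ p (by rw [Category.assoc, kernel.condition, comp_zero])

@[reassoc]
theorem π_toF : cokernel.π (a ≫ kernel.ι p) ≫ toF p a = p := cokernel.π_desc _ _ _

theorem epi_toF [Epi p] : Epi (toF p a) := by
  have : Epi (cokernel.π (a ≫ kernel.ι p) ≫ toF p a) := by rw [π_toF]; infer_instance
  exact epi_of_epi (cokernel.π (a ≫ kernel.ι p)) _

end Quot

/-- Functorial version of: if `a : P ⟶ ker p` is epi then `coker (P ⟶ G) ≅ F`. -/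
theorem isIso_map_toF {P G F : X.Modules} (p : G ⟶ F) [Epi p] (a : P ⟶ kernel p) {Y : Scheme.{u}}
    (R : X.Modules ⥤ Y.Modules) [R.PreservesZeroMorphisms] [PreservesColimitsOfSize.{0, 0} R]
    [Epi (R.map a)] : IsIso (R.map (toF p a)) := by
  have hp : IsColimit (CokernelCofork.ofπ (f := kernel.ι p) p (kernel.condition p)) :=
    Abelian.epiIsCokernelOfKernel _ (limit.isLimit _)
  have hp' := CokernelCofork.mapIsColimit _ hp R
  have h1 : R.map (kernel.ι p) ≫ R.map (cokernel.π (a ≫ kernel.ι p)) = 0 := by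
    rw [← cancel_epi (R.map a), comp_zero, ← R.map_comp, ← R.map_comp, ← Category.assoc,
      cokernel.condition, R.map_zero]
  obtain ⟨ψ, hψ⟩ := CokernelCofork.IsColimit.desc' hp' _ h1
  have hψ' : R.map p ≫ ψ = R.map (cokernel.π (a ≫ kernel.ι p)) := hψ
  have e1 : Epi (R.map p) := inferInstance
  have e2 : Epi (R.map (cokernel.π (a ≫ kernel.ι p))) := inferInstance
  have h2 : R.map (cokernel.π (a ≫ kernel.ι p)) ≫ R.map (toF p a) = R.map p := by
    rw [← R.map_comp, π_toF]
  refine ⟨ψ, ?_, ?_⟩
  · rw [← cancel_epi (R.map (cokernel.π (a ≫ kernel.ι p))), ← Category.assoc, h2, hψ',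
      Category.comp_id]
  · rw [← cancel_epi (R.map p), ← Category.assoc, hψ', h2, Category.comp_id]

/-- The kernel of an epimorphism from a finite type module to a finitely presented one is of
finite type. -/
theorem isFT_kernel {G F : X.Modules} (p : G ⟶ F) [Epi p] (hG : Coh.IsQCoh G) (hG' : CohB1.IsFT G)
    (hF : Coh.IsQCoh F) (hF' : CohB1.IsFP F) : CohB1.IsFT (kernel p) := by
  have hK : Coh.IsQCoh (kernel p) := isQCoh_kernel p hG hF
  refine (CohqB.FiniteType2.isFT_iff_finite_sections (kernel p)).mpr fun V hV => ?_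
  have h1 := CohqB.FiniteType2.finite_sections_of_isFT G hG' hV
  have h2 := Desc.FPSections.finitePresentation_sections hV hF hF'
  let S : ShortComplex X.Modules := ShortComplex.mk (kernel.ι p) p (kernel.condition p)
  have hS : S.Exact := S.exact_of_f_is_kernel (kernelIsKernel p)
  have hmono : Mono S.f := inferInstanceAs (Mono (kernel.ι p))
  have hex : Function.Exact (CohqB.FiniteType2.appLinear (kernel.ι p) V)
      (CohqB.FiniteType2.appLinear p V) := CohqB.FiniteType2.sections_exact S hS V
  have hsurj : Function.Surjective (CohqB.FiniteType2.appLinear p V) :=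
    CohqB.QC5.app_surjective_of_epi p hG hF hV
  have hfg := Module.FinitePresentation.fg_ker _ hsurj
  rw [LinearMap.exact_iff.mp hex] at hfg
  have hinj := CohqB.FiniteType2.appLinear_injective (kernel.ι p) V
  have : Module.Finite Γ(X, V) (LinearMap.range (CohqB.FiniteType2.appLinear (kernel.ι p) V)) :=
    Module.Finite.iff_fg.mpr hfg
  exact Module.Finite.equiv (LinearEquiv.ofInjective _ hinj).symm

/-- **the reference** -/
theorem exists_isFP_quotient [CompactSpace X] [QuasiSeparatedSpace X] (F : X.Modules)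
    (hF : Coh.IsQCoh F) (hF' : CohB1.IsFT F) (U : X.Opens) (hU : IsCompact (U : Set X))
    (hFU : CohB1.IsFP (F.restrict U.ι)) :
    ∃ (G : X.Modules) (φ : G ⟶ F), CohB1.IsFP G ∧ Epi φ ∧
      IsIso ((Scheme.Modules.restrictFunctor U.ι).map φ) := by
  obtain ⟨G, p, hG, hp⟩ := exists_isFP_epi F hF hF'
  have hGq := Models2.FPCoh.isQCoh_of_isFP hG
  have hGt := Models2.FPCoh.isFT_of_isFP hG
  have hK : Coh.IsQCoh (kernel p) := isQCoh_kernel p hGq hF
  let R := Scheme.Modules.restrictFunctor U.ι
  have hGU : Coh.IsQCoh (R.obj G) := inferInstance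
  have hGUt : CohB1.IsFT (R.obj G) := CohqB.LocalQC.isFT_restrict U.ι hGt
  have hFUq : Coh.IsQCoh (R.obj F) := inferInstance
  have hKU : CohB1.IsFT ((kernel p).restrict U.ι) := by
    have h := isFT_kernel (R.map p) hGU hGUt hFUq hFU
    have e : (kernel p).restrict U.ι ≅ kernel (R.map p) := PreservesKernel.iso R p
    exact Dcoh.FTFP.isFT_of_iso e.symm h
  have hKUq : Coh.IsQCoh ((kernel p).restrict U.ι) := inferInstance
  have : CompactSpace (U : Scheme.{u}) := isCompact_iff_compactSpace.mp hU
  have : QuasiSeparatedSpace (U : Scheme.{u}) :=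
    U.ι.isOpenEmbedding.quasiSeparatedSpace
  obtain ⟨P', a', hP', ha'⟩ := exists_isFP_epi _ hKUq hKU
  obtain ⟨P, a, e, hP, ha⟩ := PerfC.ExtOpen.exists_extension (kernel p) P' a' hK hU hP'
  have : Epi (R.map a) := by
    have : Epi (e.hom ≫ a') := epi_comp _ _
    rw [ha] at this
    exact this
  exact ⟨_, toF p a, Smoothlim.FPMod.isFP_cokernel _ hP hG, epi_toF p a, isIso_map_toF p a R⟩

end K593.FPQuot
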