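import Groth.Agent.Ega4B.NagBasic
import Mathlib.RingTheory.Localization.Finiteness
import Mathlib.RingTheory.Localization.Away.Basic
import Mathlib.RingTheory.Localization.InvSubmonoid

/-!
# N-2, Nagata and universally Japanese are local on the spectrum (algebraic form)
-/

set_option autoImplicit false

namespace K593.LocalN2

universe u

open CAlg

/-- N-2 can be checked on the localizations at a finite family generating the unit ideal. -/
theorem isN2_of_span {R : Type u} [CommRing R] [IsDomain R] (s : Finset R)
    (hs : Ideal.span (s : Set R) = ⊤)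
    (H : ∀ f ∈ s, f ≠ 0 → ∃ (B : Type u) (_ : CommRing B) (_ : IsDomain B) (_ : Algebra R B)
      (_ : IsLocalization.Away f B), IsN2 B) : IsN2 R := by
  classical
  intro L _ _ _ _ hL
  -- for every `f` in `s` there is a finitely generated submodule of the integral closure
  have key : ∀ f ∈ s, ∃ N : Submodule R (integralClosure R L), N.FG ∧
      ∀ c : integralClosure R L, ∃ n : ℕ, f ^ n • c ∈ N := by
    intro f hf
    by_cases hf0 : f = 0
    · subst hf0
      refine ⟨⊥, Submodule.fg_bot, fun c => ⟨1, ?_⟩⟩
      rw [pow_one, zero_smul]
      exact zero_mem _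
    · obtain ⟨B, _, _, _, hB, hN⟩ := H f hf hf0
      have hM : Submonoid.powers f ≤ nonZeroDivisors R :=
        powers_le_nonZeroDivisors_of_noZeroDivisors hf0
      let _ := IsLocalization.localizationAlgebraOfSubmonoidLe B (FractionRing R)
        (Submonoid.powers f) (nonZeroDivisors R) hM
      have := IsLocalization.localization_isScalarTower_of_submonoid_le B
        (FractionRing R) (Submonoid.powers f) (nonZeroDivisors R) hM
      have : IsFractionRing B (FractionRing R) :=
        IsFractionRing.isFractionRing_of_isDomain_of_isLocalization (Submonoid.powers f) _ _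
      let _ : Algebra B L := ((algebraMap (FractionRing R) L).comp
        (algebraMap B (FractionRing R))).toAlgebra
      have h1 : IsScalarTower B (FractionRing R) L := IsScalarTower.of_algebraMap_eq' rfl
      have h2 : IsScalarTower R B L := by
        refine IsScalarTower.of_algebraMap_eq fun x => ?_
        rw [IsScalarTower.algebraMap_apply B (FractionRing R) L,
          ← IsScalarTower.algebraMap_apply R B (FractionRing R),
          ← IsScalarTower.algebraMap_apply R (FractionRing R) L]
      have hfin : Module.Finite B (integralClosure B L) :=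
        Groth.Agent.Ega4B.NagBasic.n2For B hN (FractionRing R) L
      obtain ⟨t, ht⟩ := hfin.fg_top
      have h3 : ∀ b : integralClosure B L, ∃ c : integralClosure R L, ∃ n : ℕ,
          (c : L) = f ^ n • (b : L) := by
        intro b
        obtain ⟨⟨m, n, rfl⟩, hm⟩ := IsIntegral.exists_multiple_integral_of_isLocalization
          (Submonoid.powers f) (b : L) b.2
        exact ⟨⟨_, hm⟩, n, rfl⟩
      choose φ ν hφ using h3
      refine ⟨Submodule.span R ((t.image φ : Finset (integralClosure R L)) :
        Set (integralClosure R L)), Submodule.fg_span (Finset.finite_toSet _), fun c => ?_⟩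
      have hc : (⟨(c : L), IsIntegral.tower_top (R := R) c.2⟩ : integralClosure B L) ∈
          Submodule.span B (t : Set (integralClosure B L)) := by
        rw [ht]; trivial
      have main : ∀ b : integralClosure B L, b ∈ Submodule.span B (t : Set (integralClosure B L)) →
          ∃ n : ℕ, ∃ d ∈ Submodule.span R
            ((t.image φ : Finset (integralClosure R L)) : Set (integralClosure R L)),
            (d : L) = f ^ n • (b : L) := by
        intro b hb
        induction hb using Submodule.span_induction with
        | mem x hx =>
          exact ⟨ν x, φ x, Submodule.subset_span (by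
            rw [Finset.coe_image]; exact Set.mem_image_of_mem _ hx), hφ x⟩
        | zero => exact ⟨0, 0, zero_mem _, by simp⟩
        | add x y _ _ hx hy =>
          obtain ⟨n, d, hd, hdx⟩ := hx
          obtain ⟨m, e, he, hey⟩ := hy
          refine ⟨n + m, f ^ m • d + f ^ n • e, add_mem (Submodule.smul_mem _ _ hd)
            (Submodule.smul_mem _ _ he), ?_⟩
          change (f ^ m • (d : L)) + f ^ n • (e : L) = f ^ (n + m) • ((x : L) + (y : L))
          rw [hdx, hey, smul_smul, smul_smul, ← pow_add, ← pow_add, smul_add, add_comm m n]
        | smul r x _ hx =>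
          obtain ⟨n, d, hd, hdx⟩ := hx
          obtain ⟨k, a, ha⟩ := IsLocalization.Away.surj f r
          refine ⟨n + k, a • d, Submodule.smul_mem _ _ hd, ?_⟩
          change a • (d : L) = f ^ (n + k) • (r • (x : L))
          rw [hdx, ← algebraMap_smul B a, ← ha, ← algebraMap_smul B (f ^ n), ← algebraMap_smul B (f ^ (n + k)),
            smul_smul, smul_smul, map_pow, map_pow]
          congr 1
          ring
      obtain ⟨n, d, hd, hdc⟩ := main _ hc
      refine ⟨n, ?_⟩
      have : f ^ n • c = d := Subtype.ext hdc.symm
      rw [this]
      exact hd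
  choose! N hNfg hN using key
  refine ⟨?_⟩
  have : (⨆ f ∈ s, N f) = ⊤ := by
    rw [eq_top_iff]
    intro c _
    refine Submodule.mem_of_span_eq_top_of_smul_pow_mem _ (s : Set R) hs _ fun r => ?_
    obtain ⟨n, hn⟩ := hN r.1 r.2 c
    exact ⟨n, (le_iSup₂_of_le (f := fun f (_ : f ∈ s) => N f) r.1 r.2 le_rfl) hn⟩
  rw [← this]
  exact Submodule.fg_biSup s N hNfg

/-- A Nagata domain is N-2. -/
theorem isN2_of_isNagata {A : Type u} [CommRing A] [IsDomain A] (hA : IsNagata A) : IsN2 A := by
  have := hA.2 (⊥ : Ideal A)
  exact Groth.Agent.Ega4B.NagBasic.isN2_of_ringEquiv (RingEquiv.quotientBot A) this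

/-- A ring of finite type over a universally Japanese ring is universally Japanese. -/
theorem isUniversallyJapanese_of_finiteType {R B : Type u} [CommRing R] [CommRing B] [Algebra R B]
    [Algebra.FiniteType R B] (h : IsUniversallyJapanese R) : IsUniversallyJapanese B := by
  intro S _ _ _ hS
  let _ : Algebra R S := ((algebraMap B S).comp (algebraMap R B)).toAlgebra
  have h1 : IsScalarTower R B S := IsScalarTower.of_algebraMap_eq' rfl
  exact h S (Algebra.FiniteType.trans (R := R) (S := B) inferInstance hS)

/-- Universally Japanese can be checked on the localizations at a finite family generating the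
unit ideal. -/
theorem isUniversallyJapanese_of_span {R : Type u} [CommRing R] (s : Finset R)
    (hs : Ideal.span (s : Set R) = ⊤)
    (H : ∀ f ∈ s, ∃ (B : Type u) (_ : CommRing B) (_ : Algebra R B)
      (_ : IsLocalization.Away f B), IsUniversallyJapanese B) : IsUniversallyJapanese R := by
  classical
  intro S _ _ _ hS
  refine isN2_of_span (s.image (algebraMap R S)) ?_ ?_
  · rw [Finset.coe_image, ← Ideal.map_span, hs, Ideal.map_top]
  · intro g hg hg0
    obtain ⟨f, hf, rfl⟩ := Finset.mem_image.1 hg
    obtain ⟨B, _, _, hB, hJ⟩ := H f hf
    have hle : Submonoid.powers (algebraMap R S f) ≤ nonZeroDivisors S :=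
      powers_le_nonZeroDivisors_of_noZeroDivisors hg0
    have hdom : IsDomain (Localization.Away (algebraMap R S f)) :=
      IsLocalization.isDomain_localization hle
    refine ⟨Localization.Away (algebraMap R S f), inferInstance, hdom, inferInstance,
      inferInstance, ?_⟩
    have hu : IsUnit (algebraMap R (Localization.Away (algebraMap R S f)) f) := by
      rw [IsScalarTower.algebraMap_apply R S (Localization.Away (algebraMap R S f))]
      exact IsLocalization.Away.algebraMap_isUnit _
    let _ : Algebra B (Localization.Away (algebraMap R S f)) :=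
      (IsLocalization.Away.lift f hu).toAlgebra
    have ht : IsScalarTower R B (Localization.Away (algebraMap R S f)) :=
      IsScalarTower.of_algebraMap_eq fun x => (IsLocalization.Away.lift_eq f hu x).symm
    have hft : Algebra.FiniteType R (Localization.Away (algebraMap R S f)) :=
      Algebra.FiniteType.trans hS
        (IsLocalization.finiteType_of_monoid_fg (Submonoid.powers (algebraMap R S f)) _)
    exact hJ _ (Algebra.FiniteType.of_restrictScalars_finiteType R B _)

/-- Nagata can be checked on the localizations at a finite family generating the unit ideal. -/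
theorem isNagata_of_span {R : Type u} [CommRing R] (hR : IsNoetherianRing R) (s : Finset R)
    (hs : Ideal.span (s : Set R) = ⊤)
    (H : ∀ f ∈ s, ∃ (B : Type u) (_ : CommRing B) (_ : Algebra R B)
      (_ : IsLocalization.Away f B), IsNagata B) : IsNagata R := by
  classical
  refine ⟨hR, fun p hp => ?_⟩
  refine isN2_of_span (s.image (algebraMap R (R ⧸ p))) ?_ ?_
  · rw [Finset.coe_image, ← Ideal.map_span, hs, Ideal.map_top]
  · intro g hg hg0
    obtain ⟨f, hf, rfl⟩ := Finset.mem_image.1 hg
    obtain ⟨B, _, _, hB, hJ⟩ := H f hf
    have hle : Submonoid.powers (algebraMap R (R ⧸ p) f) ≤ nonZeroDivisors (R ⧸ p) :=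
      powers_le_nonZeroDivisors_of_noZeroDivisors hg0
    have hdom : IsDomain (Localization.Away (algebraMap R (R ⧸ p) f)) :=
      IsLocalization.isDomain_localization hle
    refine ⟨Localization.Away (algebraMap R (R ⧸ p) f), inferInstance, hdom, inferInstance,
      inferInstance, ?_⟩
    have hu : IsUnit (algebraMap R (Localization.Away (algebraMap R (R ⧸ p) f)) f) := by
      rw [IsScalarTower.algebraMap_apply R (R ⧸ p) (Localization.Away (algebraMap R (R ⧸ p) f))]
      exact IsLocalization.Away.algebraMap_isUnit _
    refine isN2_of_isNagata (Groth.Agent.Ega4B.NagBasic.isNagata_of_surjective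
      (IsLocalization.Away.lift (S := B) f hu) ?_ hJ)
    intro z
    obtain ⟨n, a, ha⟩ := IsLocalization.Away.surj (algebraMap R (R ⧸ p) f) z
    obtain ⟨a, rfl⟩ := Ideal.Quotient.mk_surjective a
    obtain ⟨u, hu'⟩ : IsUnit (algebraMap R B f) := IsLocalization.Away.algebraMap_isUnit _
    refine ⟨algebraMap R B a * ↑(u⁻¹) ^ n, ?_⟩
    have hz : IsUnit (algebraMap (R ⧸ p) (Localization.Away (algebraMap R (R ⧸ p) f))
        (algebraMap R (R ⧸ p) f) ^ n) := (IsLocalization.Away.algebraMap_isUnit _).pow n
    refine hz.mul_right_cancel ?_
    rw [ha, map_mul, IsLocalization.Away.lift_eq, map_pow, mul_assoc, ← mul_pow,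
      ← IsScalarTower.algebraMap_apply R (R ⧸ p), ← IsLocalization.Away.lift_eq (S := B) f hu f,
      ← map_mul, ← hu', Units.inv_mul, map_one, one_pow, mul_one]
    rfl

end K593.LocalN2
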