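import Groth.Agent.Ega3A.FiberRank
import Mathlib.RingTheory.LocalProperties.FinitePresentation
import Mathlib.RingTheory.Flat.Localization

/-!
# Finite modules with locally constant fibre rank are projective (reduced base, or flat module)
-/

set_option autoImplicit false

namespace K593.RankAlg

universe u v

open TensorProduct PrimeSpectrum Groth.Agent.Ega3A.FiberRank

variable {R : Type u} [CommRing R] {M : Type v} [AddCommGroup M] [Module R M]

/-- Kernel of a local presentation over a flat module. -/
theorem exists_notMem_smul_eq_zero [Module.Finite R M] [Module.Flat R M] {n : ℕ}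
    (φ : (Fin n → R) →ₗ[R] M) (q : PrimeSpectrum R)
    (hq : q ∉ Module.support R (M ⧸ LinearMap.range φ)) (hr : fiberRank M q = n)
    (w : Fin n → R) (hw : φ w = 0) : ∃ r : R, r ∉ q.asIdeal ∧ r • w = 0 := by
  let S := q.asIdeal.primeCompl
  let Rq := Localization.AtPrime q.asIdeal
  have hsurj : Function.Surjective (LocalizedModule.map S φ) := by
    intro y
    induction y with
    | h m s =>
      have h1 : ∃ r : R, r ∉ q.asIdeal ∧ r • m ∈ LinearMap.range φ := by
        rw [Module.notMem_support_iff] at hq
        have h2 : LocalizedModule.mkLinearMap S (M ⧸ LinearMap.range φ)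
          ((LinearMap.range φ).mkQ m) = 0 := Subsingleton.elim _ _
        rw [IsLocalizedModule.eq_zero_iff S] at h2
        obtain ⟨⟨r, hr⟩, hrm⟩ := h2
        refine ⟨r, hr, ?_⟩
        rw [← Submodule.Quotient.mk_eq_zero]
        exact hrm
      obtain ⟨r, hrq, x, hx⟩ := h1
      refine ⟨LocalizedModule.mk x (⟨r, hrq⟩ * s), ?_⟩
      rw [LocalizedModule.map_mk, hx]
      exact LocalizedModule.mk_cancel_common_left ⟨r, hrq⟩ s m
  have hfree : Module.Free Rq (LocalizedModule S M) := Module.free_of_flat_of_isLocalRing
  have hfin : Module.finrank Rq (LocalizedModule S M) = n := by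
    rw [← hr, fiberRank_eq_rankAtStalk]
    rfl
  have hfin' : Module.finrank Rq (LocalizedModule S (Fin n → R)) = n := by
    have h3 : Module.rankAtStalk (R := R) (Fin n → R) q = n := by
      have : Nontrivial R := ⟨⟨0, 1, fun h => q.2.ne_top ((Ideal.eq_top_iff_one _).2 (h ▸ zero_mem _))⟩⟩
      rw [Module.rankAtStalk_eq_finrank_of_free]
      simp
    exact h3
  have hfree' : Module.Free Rq (LocalizedModule S (Fin n → R)) :=
    Module.free_of_isLocalizedModule S (LocalizedModule.mkLinearMap S (Fin n → R))
  have hinj : Function.Bijective (LocalizedModule.map S φ) :=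
    OrzechProperty.bijective_of_surjective_of_finrank_le _ hsurj (by rw [hfin, hfin'])
  have h4 : LocalizedModule.mkLinearMap S (Fin n → R) w = 0 := by
    apply hinj.1
    rw [map_zero]
    change LocalizedModule.map S φ (LocalizedModule.mk w 1) = 0
    rw [LocalizedModule.map_mk, hw, LocalizedModule.zero_mk]
  rw [IsLocalizedModule.eq_zero_iff S] at h4
  obtain ⟨⟨r, hr'⟩, hrw⟩ := h4
  exact ⟨r, hr', hrw⟩

/-- The kernel of a local presentation is killed by powers of `f`. -/
theorem exists_pow_smul_eq_zero [Module.Finite R M] (hi : IsReduced R ∨ Module.Flat R M) {n : ℕ}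
    (φ : (Fin n → R) →ₗ[R] M) (f : R)
    (hf : ∀ q : PrimeSpectrum R, f ∉ q.asIdeal →
      q ∉ Module.support R (M ⧸ LinearMap.range φ) ∧ fiberRank M q = n)
    (w : Fin n → R) (hw : φ w = 0) : ∃ m : ℕ, f ^ m • w = 0 := by
  have key : ∀ q : PrimeSpectrum R, f ∉ q.asIdeal → ∃ r : R, r ∉ q.asIdeal ∧ r • w = 0 := by
    intro q hq
    rcases hi with hi | hi
    · refine ⟨f, hq, ?_⟩
      ext i
      have h1 : f * w i ∈ nilradical R := by
        rw [nilradical_eq_sInf, Submodule.mem_sInf]
        rintro (q' : Ideal R) (hq' : q'.IsPrime)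
        by_cases hfq : f ∈ q'
        · exact Ideal.mul_mem_right _ _ hfq
        · refine Ideal.mul_mem_left _ _ ?_
          have h2 := hf ⟨q', hq'⟩ hfq
          exact mem_of_surjective_of_fiberRank_eq φ ⟨q', hq'⟩
            (lTensor_surjective_of_notMem_support φ _ h2.1) h2.2.symm w hw i
      rw [nilradical_eq_zero] at h1
      simpa using h1
    · exact exists_notMem_smul_eq_zero φ q (hf q hq).1 (hf q hq).2 w hw
  have h3 : f ∈ (Submodule.span R {w}).annihilator.radical := by
    rw [Ideal.radical_eq_sInf, Submodule.mem_sInf]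
    rintro (q : Ideal R) ⟨hq, hqp⟩
    by_contra hfq
    obtain ⟨r, hr, hrw⟩ := key ⟨q, hqp⟩ hfq
    exact hr (hq ((Submodule.mem_annihilator_span_singleton _ _).2 hrw))
  obtain ⟨m, hm⟩ := h3
  exact ⟨m, (Submodule.mem_annihilator_span_singleton _ _).1 hm⟩

/-- Every prime has a basic neighbourhood over which the module is free of finite rank. -/
theorem exists_free_away [Module.Finite R M] (hi : IsReduced R ∨ Module.Flat R M)
    (h : IsLocallyConstant (fiberRank (R := R) M)) (p : PrimeSpectrum R) :
    ∃ f : R, f ∉ p.asIdeal ∧ Module.Free (Localization.Away f) (LocalizedModule.Away f M) ∧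
      Module.Finite (Localization.Away f) (LocalizedModule.Away f M) := by
  obtain ⟨φ, hφ⟩ := exists_map_notMem_support (M := M) p
  generalize hn : fiberRank M p = n at φ hφ
  have hU : IsOpen ((Module.support R (M ⧸ LinearMap.range φ))ᶜ ∩ {q | fiberRank M q = n}) :=
    (Module.isClosed_support (R := R) (M := M ⧸ LinearMap.range φ)).isOpen_compl.inter (h {n})
  obtain ⟨_, ⟨f, rfl⟩, hpf, hfU⟩ :=
    PrimeSpectrum.isTopologicalBasis_basic_opens.exists_subset_of_mem_open
      (show p ∈ (Module.support R (M ⧸ LinearMap.range φ))ᶜ ∩ {q | fiberRank M q = n} from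
        ⟨hφ, hn⟩) hU
  have hf : ∀ q : PrimeSpectrum R, f ∉ q.asIdeal →
      q ∉ Module.support R (M ⧸ LinearMap.range φ) ∧ fiberRank M q = n := fun q hq => hfU hq
  have hsurj : ∀ x : M, ∃ m : ℕ, f ^ m • x ∈ LinearMap.range φ := by
    intro x
    have h3 : f ∈ (Submodule.span R {(LinearMap.range φ).mkQ x}).annihilator.radical := by
      rw [Ideal.radical_eq_sInf, Submodule.mem_sInf]
      rintro (q : Ideal R) ⟨hq, hqp⟩
      by_contra hfq
      have h1 := (hf ⟨q, hqp⟩ hfq).1
      rw [Module.notMem_support_iff] at h1
      have h2 : LocalizedModule.mkLinearMap q.primeCompl (M ⧸ LinearMap.range φ)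
        ((LinearMap.range φ).mkQ x) = 0 := Subsingleton.elim _ _
      rw [IsLocalizedModule.eq_zero_iff q.primeCompl] at h2
      obtain ⟨⟨r, hr⟩, hrm⟩ := h2
      exact hr (hq ((Submodule.mem_annihilator_span_singleton _ _).2 hrm))
    obtain ⟨m, hm⟩ := h3
    refine ⟨m, ?_⟩
    rw [← Submodule.Quotient.mk_eq_zero]
    exact (Submodule.mem_annihilator_span_singleton _ _).1 hm
  let S := Submonoid.powers f
  let Φ := LocalizedModule.map S φ
  have hbij : Function.Bijective Φ := by
    constructor
    · rw [injective_iff_map_eq_zero]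
      intro y
      induction y with
      | h w s =>
        intro hy
        change LocalizedModule.map S φ (LocalizedModule.mk w s) = 0 at hy
        rw [LocalizedModule.map_mk, ← LocalizedModule.zero_mk s, LocalizedModule.mk_eq] at hy
        obtain ⟨⟨_, a, rfl⟩, hu⟩ := hy
        obtain ⟨_, b, rfl⟩ := s
        have hu' : φ (f ^ (a + b) • w) = 0 := by
          have h1 : f ^ a • f ^ b • φ w = f ^ a • f ^ b • (0 : M) := hu
          rw [smul_zero, smul_zero] at h1
          rw [map_smul, pow_add, mul_smul, h1]
        obtain ⟨m, hm⟩ := exists_pow_smul_eq_zero hi φ f hf _ hu'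
        rw [← LocalizedModule.zero_mk (1 : S), LocalizedModule.mk_eq]
        refine ⟨⟨f ^ (m + (a + b)), _, rfl⟩, ?_⟩
        rw [smul_zero, smul_zero, one_smul]
        change f ^ (m + (a + b)) • w = 0
        rw [pow_add, mul_smul, hm]
    · intro y
      induction y with
      | h x s =>
        obtain ⟨m, w, hw⟩ := hsurj x
        refine ⟨LocalizedModule.mk w (⟨f ^ m, m, rfl⟩ * s), ?_⟩
        change LocalizedModule.map S φ (LocalizedModule.mk w _) = _
        rw [LocalizedModule.map_mk, hw]
        exact LocalizedModule.mk_cancel_common_left (⟨f ^ m, m, rfl⟩ : S) s x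
  let e := LinearEquiv.ofBijective Φ hbij
  have hfree : Module.Free (Localization.Away f) (LocalizedModule.Away f (Fin n → R)) :=
    Module.free_of_isLocalizedModule S (LocalizedModule.mkLinearMap S (Fin n → R))
  exact ⟨f, hpf, Module.Free.of_equiv e, inferInstance⟩

/-- A finite module with locally constant fibre rank, over a reduced ring or flat, is finitely
presented and flat (hence projective). -/
theorem finitePresentation_and_flat [Module.Finite R M] (hi : IsReduced R ∨ Module.Flat R M)
    (h : IsLocallyConstant (fiberRank (R := R) M)) :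
    Module.FinitePresentation R M ∧ Module.Flat R M := by
  let s : Set R := {f | Module.Free (Localization.Away f) (LocalizedModule.Away f M) ∧
      Module.Finite (Localization.Away f) (LocalizedModule.Away f M)}
  have hs : Ideal.span s = ⊤ := by
    by_contra hne
    obtain ⟨P, hP, hsP⟩ := Ideal.exists_le_maximal _ hne
    obtain ⟨f, hf, hf'⟩ := exists_free_away hi h ⟨P, hP.isPrime⟩
    exact hf (hsP (Ideal.subset_span hf'))
  refine ⟨Module.FinitePresentation.of_localizationSpan s hs fun g => ?_,
    Module.flat_of_localized_span R M s hs fun g => ?_⟩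
  · have := g.2.1
    have := g.2.2
    exact Module.finitePresentation_of_projective _ _
  · have := g.2.1
    have h1 : Module.Flat (Localization.Away g.1) (LocalizedModule.Away g.1 M) := inferInstance
    have h2 : Module.Flat R (Localization.Away g.1) := IsLocalization.flat _ (Submonoid.powers g.1)
    exact Module.Flat.trans R (Localization.Away g.1) (LocalizedModule.Away g.1 M)

end K593.RankAlg
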