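import Groth.Agent.Props.K593.RankAlg
import Groth.Agent.Fdesc.QCohStalk
import Groth.Agent.Desc.FinLocFreeSections
import Groth.Agent.CohqA.FinSec

/-!
# The fibre rank of a quasi-coherent module on a scheme
-/

set_option autoImplicit false

universe u

open CategoryTheory AlgebraicGeometry TopologicalSpace Opposite TensorProduct
open Groth.Agent.Ega3A.FiberRank Groth.Agent.Fdesc.QCohStalk

namespace K593.RankSch

variable {X : Scheme.{u}} (M : X.Modules)

/-- The fibre rank function of a module on a scheme. -/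
noncomputable def frank (x : X) : ℕ :=
  Module.finrank (IsLocalRing.ResidueField (X.presheaf.stalk x))
    (TensorProduct (X.presheaf.stalk x) (IsLocalRing.ResidueField (X.presheaf.stalk x))
      (M.presheaf.stalk x))

variable {M} {U : X.Opens} (hU : IsAffineOpen U)

/-- The fibre rank at a point of an affine open. -/
theorem frank_eq (hM : Coh.IsQCoh M) (x : X) (hx : x ∈ U) :
    frank M x = fiberRank (R := Γ(X, U)) Γ(M, U) (hU.primeIdealOf ⟨x, hx⟩) := by
  let A := Γ(X, U)
  let O := X.presheaf.stalk x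
  let κ := IsLocalRing.ResidueField O
  let _ : Algebra A O := (X.presheaf.germ U x hx).hom.toAlgebra
  let _ : Module A (M.presheaf.stalk x) := stalkModule M x hx
  have htow : IsScalarTower A O (M.presheaf.stalk x) :=
    ⟨fun a b m => by
      change ((X.presheaf.germ U x hx).hom a * b) • m = (X.presheaf.germ U x hx).hom a • b • m
      rw [mul_smul]⟩
  have hloc : IsLocalization.AtPrime O (hU.primeIdealOf ⟨x, hx⟩).asIdeal :=
    hU.isLocalization_stalk ⟨x, hx⟩
  have hlm : IsLocalizedModule (hU.primeIdealOf ⟨x, hx⟩).asIdeal.primeCompl (germₗ M x hx) :=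
    isLocalizedModule_germ M hU hM x hx
  have hbc : IsBaseChange O (germₗ M x hx) :=
    IsLocalizedModule.isBaseChange (hU.primeIdealOf ⟨x, hx⟩).asIdeal.primeCompl O (germₗ M x hx)
  let e1 : κ ⊗[O] (O ⊗[A] Γ(M, U)) ≃ₗ[κ] κ ⊗[O] (M.presheaf.stalk x) :=
    hbc.equiv.baseChange O κ _ _
  let e2 : κ ⊗[O] (O ⊗[A] Γ(M, U)) ≃ₗ[κ] κ ⊗[A] Γ(M, U) :=
    AlgebraTensorModule.cancelBaseChange A O κ κ Γ(M, U)
  have h1 : frank M x = Module.finrank κ (κ ⊗[A] Γ(M, U)) := (e1.symm.trans e2).finrank_eq
  rw [h1]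
  refine finrank_tensor_eq_fiberRank _ _ _ ?_
  ext g
  rw [mem_primeIdealOf_iff, RingHom.mem_ker, IsScalarTower.algebraMap_apply A O κ]
  exact (IsLocalRing.residue_eq_zero_iff _).symm

theorem primeIdealOf_fromSpec (y : PrimeSpectrum Γ(X, U)) (hy : hU.fromSpec y ∈ U) :
    hU.primeIdealOf ⟨hU.fromSpec y, hy⟩ = y :=
  hU.fromSpec.isOpenEmbedding.injective (hU.fromSpec_primeIdealOf ⟨hU.fromSpec y, hy⟩)

theorem fiberRank_eq (hM : Coh.IsQCoh M) (y : PrimeSpectrum Γ(X, U)) :
    fiberRank (R := Γ(X, U)) Γ(M, U) y = frank M (hU.fromSpec y) := by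
  have hy : hU.fromSpec y ∈ U := (hU.isoSpec.inv y).2
  rw [frank_eq hU hM _ hy, primeIdealOf_fromSpec]

include hU in
theorem isLocallyConstant_fiberRank_sections (hM : Coh.IsQCoh M) (h : IsLocallyConstant (frank M)) :
    IsLocallyConstant (fiberRank (R := Γ(X, U)) Γ(M, U)) := by
  have h1 : fiberRank (R := Γ(X, U)) Γ(M, U) = frank M ∘ hU.fromSpec :=
    funext fun y => fiberRank_eq hU hM y
  rw [h1]
  exact h.comp_continuous hU.fromSpec.continuous

include hU in
/-- If the stalks of a quasi-coherent module are free, then its sections over an affine open are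
flat. -/
theorem flat_sections (hM : Coh.IsQCoh M)
    (h : ∀ x : X, Module.Free (X.presheaf.stalk x) (M.presheaf.stalk x)) :
    Module.Flat Γ(X, U) Γ(M, U) := by
  refine Module.flat_of_localized_maximal _ fun P hP => ?_
  let y : PrimeSpectrum Γ(X, U) := ⟨P, hP.isPrime⟩
  let x : X := hU.fromSpec y
  have hx : x ∈ U := (hU.isoSpec.inv y).2
  have hxy : hU.primeIdealOf ⟨x, hx⟩ = y := primeIdealOf_fromSpec hU y hx
  let A := Γ(X, U)
  let O := X.presheaf.stalk x
  let _ : Algebra A O := (X.presheaf.germ U x hx).hom.toAlgebra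
  let _ : Module A (M.presheaf.stalk x) := stalkModule M x hx
  have htow : IsScalarTower A O (M.presheaf.stalk x) :=
    ⟨fun a b m => by
      change ((X.presheaf.germ U x hx).hom a * b) • m = (X.presheaf.germ U x hx).hom a • b • m
      rw [mul_smul]⟩
  have hloc : IsLocalization.AtPrime O (hU.primeIdealOf ⟨x, hx⟩).asIdeal :=
    hU.isLocalization_stalk ⟨x, hx⟩
  have hlm : IsLocalizedModule (hU.primeIdealOf ⟨x, hx⟩).asIdeal.primeCompl (germₗ M x hx) :=
    isLocalizedModule_germ M hU hM x hx
  have hfree := h x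
  have hflat : Module.Flat A O := IsLocalization.flat _ (hU.primeIdealOf ⟨x, hx⟩).asIdeal.primeCompl
  have hflat' : Module.Flat A (M.presheaf.stalk x) := Module.Flat.trans A O _
  have hP' : (hU.primeIdealOf ⟨x, hx⟩).asIdeal.primeCompl = P.primeCompl := by rw [hxy]
  rw [hP'] at hlm
  exact Module.Flat.of_linearEquiv (IsLocalizedModule.iso P.primeCompl (germₗ M x hx))

/-- Finite locally free from finite type and locally constant fibre rank. -/
theorem isFinLocFree_of (hM : Coh.IsQCoh M) (hft : CohB1.IsFT M) (h : IsLocallyConstant (frank M))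
    (hi : IsReduced X ∨ ∀ x : X, Module.Free (X.presheaf.stalk x) (M.presheaf.stalk x)) :
    FlatMod.IsFinLocFree M := by
  rw [Groth.Agent.Desc.FinLocFreeSections.isFinLocFree_iff_of_cover hM (fun _ => True) (fun x => by
    obtain ⟨V, hV, hx, -⟩ := exists_isAffineOpen_mem_and_subset (x := x) (U := ⊤) trivial
    exact ⟨V, trivial, hV, hx⟩)]
  intro V _ hV
  have hfin : Module.Finite Γ(X, V) Γ(M, V) := Groth.Agent.CohqA.FinSec.finite_sections hV hM hft
  refine K593.RankAlg.finitePresentation_and_flat ?_ (isLocallyConstant_fiberRank_sections hV hM h)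
  rcases hi with hi | hi
  · exact Or.inl inferInstance
  · exact Or.inr (flat_sections hV hM hi)

/-- A finite locally free module has locally constant fibre rank. -/
theorem isLocallyConstant_frank (hM : Coh.IsQCoh M) (h : FlatMod.IsFinLocFree M) :
    IsLocallyConstant (frank M) := by
  rw [IsLocallyConstant.iff_eventually_eq]
  intro x
  obtain ⟨V, hV, hx, -⟩ := exists_isAffineOpen_mem_and_subset (X := X) (x := x) (U := ⊤) trivial
  have h1 := (Groth.Agent.Desc.FinLocFreeSections.isFinLocFree_iff_of_cover hM (fun _ => True)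
    (fun x => by
      obtain ⟨V, hV, hx, -⟩ := exists_isAffineOpen_mem_and_subset (x := x) (U := ⊤) trivial
      exact ⟨V, trivial, hV, hx⟩)).1 h V trivial hV
  obtain ⟨h2, h3⟩ := h1
  have h4 : IsLocallyConstant (fiberRank (R := Γ(X, V)) Γ(M, V)) := isLocallyConstant_fiberRank
  have h5 : IsLocallyConstant (fun z : V => frank M z.1) := by
    have h6 : (fun z : V => frank M z.1) =
        fiberRank (R := Γ(X, V)) Γ(M, V) ∘ hV.primeIdealOf := by
      funext z
      exact frank_eq hV hM z.1 z.2
    rw [h6]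
    refine h4.comp_continuous ?_
    exact hV.isoSpec.hom.continuous
  rw [IsLocallyConstant.iff_eventually_eq] at h5
  have h7 := h5 ⟨x, hx⟩
  have h8 := V.isOpen.isOpenEmbedding_subtypeVal.map_nhds_eq ⟨x, hx⟩
  rw [← h8, Filter.eventually_map]
  exact h7

/-- The stalks of a finite locally free module are free. -/
theorem free_stalk (hM : Coh.IsQCoh M) (h : FlatMod.IsFinLocFree M) (x : X) :
    Module.Free (X.presheaf.stalk x) (M.presheaf.stalk x) := by
  obtain ⟨U, hU, hx, -⟩ := exists_isAffineOpen_mem_and_subset (X := X) (x := x) (U := ⊤) trivial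
  have h1 := (Groth.Agent.Desc.FinLocFreeSections.isFinLocFree_iff_of_cover hM (fun _ => True)
    (fun x => by
      obtain ⟨V, hV, hx, -⟩ := exists_isAffineOpen_mem_and_subset (x := x) (U := ⊤) trivial
      exact ⟨V, trivial, hV, hx⟩)).1 h U trivial hU
  obtain ⟨h2, h3⟩ := h1
  let A := Γ(X, U)
  let O := X.presheaf.stalk x
  let _ : Algebra A O := (X.presheaf.germ U x hx).hom.toAlgebra
  let _ : Module A (M.presheaf.stalk x) := stalkModule M x hx
  have htow : IsScalarTower A O (M.presheaf.stalk x) :=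
    ⟨fun a b m => by
      change ((X.presheaf.germ U x hx).hom a * b) • m = (X.presheaf.germ U x hx).hom a • b • m
      rw [mul_smul]⟩
  have hloc : IsLocalization.AtPrime O (hU.primeIdealOf ⟨x, hx⟩).asIdeal :=
    hU.isLocalization_stalk ⟨x, hx⟩
  have hlm : IsLocalizedModule (hU.primeIdealOf ⟨x, hx⟩).asIdeal.primeCompl (germₗ M x hx) :=
    isLocalizedModule_germ M hU hM x hx
  have hbc : IsBaseChange O (germₗ M x hx) :=
    IsLocalizedModule.isBaseChange (hU.primeIdealOf ⟨x, hx⟩).asIdeal.primeCompl O (germₗ M x hx)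
  have h4 : Module.Finite O (M.presheaf.stalk x) := Module.Finite.equiv hbc.equiv
  have h5 : Module.Flat O (M.presheaf.stalk x) := Module.Flat.of_linearEquiv hbc.equiv.symm
  exact Module.free_of_flat_of_isLocalRing

/-- A finite locally free module is of finite type. -/
theorem isFT_of_isFinLocFree (hM : Coh.IsQCoh M) (h : FlatMod.IsFinLocFree M) : CohB1.IsFT M := by
  refine Groth.Agent.CohqA.FinSec.isFT_of_finite hM fun x => ?_
  obtain ⟨U, hU, hx, -⟩ := exists_isAffineOpen_mem_and_subset (X := X) (x := x) (U := ⊤) trivial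
  have h1 := (Groth.Agent.Desc.FinLocFreeSections.isFinLocFree_iff_of_cover hM (fun _ => True)
    (fun x => by
      obtain ⟨V, hV, hx, -⟩ := exists_isAffineOpen_mem_and_subset (x := x) (U := ⊤) trivial
      exact ⟨V, trivial, hV, hx⟩)).1 h U trivial hU
  obtain ⟨h2, h3⟩ := h1
  exact ⟨U, hU, hx, inferInstance⟩

end K593.RankSch
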