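import Mathlib.AlgebraicGeometry.IdealSheaf.Basic
import Groth.Agent.CohqB.QC2

/-!
# Sections killed by a finite type ideal form a quasi-coherent submodule
-/

set_option autoImplicit false
universe u

open CategoryTheory CategoryTheory.Limits AlgebraicGeometry Opposite TopologicalSpace

namespace K593.TorsionQC

open Groth.Agent.CohqB.QC2

variable {X : Scheme.{u}}

theorem isQCoh_of_torsion {T F : X.Modules} (ε : T ⟶ F) (hF : SheafOfModules.IsQuasicoherent (R := X.ringCatSheaf) F)
    (I : X.IdealSheafData) (hI : ∀ U : X.affineOpens, (I.ideal U).FG)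
    (hinj : ∀ U : X.affineOpens, Function.Injective (ε.app U.1))
    (hran : ∀ (U : X.affineOpens) (s : Γ(F, U.1)), (∃ t, ε.app U.1 t = s) ↔
      ∀ a ∈ I.ideal U, a • s = 0) :
    SheafOfModules.IsQuasicoherent (R := X.ringCatSheaf) T := by
  refine (isQuasicoherent_iff_loc T).mpr fun U hU => ?_
  have hFU : Loc F U := (isQuasicoherent_iff_loc F).mp hF U hU
  have hres : ∀ {V : X.Opens} (h : V ≤ U) (t : Γ(T, U)),
      ε.app V (res T h t) = res F h (ε.app U t) := fun h t => app_res ε h t
  refine ⟨fun f s => ?_, fun f t ht => ?_⟩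
  · let D : X.affineOpens := ⟨X.basicOpen f, hU.basicOpen f⟩
    obtain ⟨n, t, ht⟩ := hFU.exists_lift f (ε.app _ s)
    have hs := (hran D (ε.app _ s)).mp ⟨s, rfl⟩
    obtain ⟨S, hS⟩ := hI ⟨U, hU⟩
    have hkill : ∀ a ∈ I.ideal ⟨U, hU⟩, ∃ m : ℕ, f ^ m • (a • t) = 0 := by
      intro a ha
      refine hFU.eq_zero f _ ?_
      rw [res_smul, ht]
      have ha' : resR (X.basicOpen_le f) a ∈ I.ideal D := by
        have := I.map_ideal (U := D) (V := ⟨U, hU⟩) (X.basicOpen_le f)
        rw [← this]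
        exact Ideal.mem_map_of_mem _ ha
      rw [smul_comm, hs _ ha', smul_zero]
    have hkill' : ∀ a : Γ(X, U), ∃ m : ℕ, a ∈ S → f ^ m • (a • t) = 0 := by
      intro a
      by_cases ha : a ∈ S
      · obtain ⟨m, hm⟩ := hkill a (by rw [← hS]; exact Ideal.subset_span ha)
        exact ⟨m, fun _ => hm⟩
      · exact ⟨0, fun h => absurd h ha⟩
    choose m hm using hkill'
    let N := S.sup m
    have hN : ∀ a ∈ I.ideal ⟨U, hU⟩, a • (f ^ N • t) = 0 := by
      intro a ha
      rw [← hS] at ha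
      induction ha using Submodule.span_induction with
      | mem a ha =>
        have h1 : m a ≤ N := Finset.le_sup ha
        rw [smul_comm, ← Nat.sub_add_cancel h1, pow_add, mul_smul, hm a ha, smul_zero]
      | zero => rw [zero_smul]
      | add a b _ _ ha hb => rw [add_smul, ha, hb, add_zero]
      | smul r a _ ha => rw [smul_eq_mul, mul_smul, ha, smul_zero]
    obtain ⟨t', ht'⟩ := (hran ⟨U, hU⟩ (f ^ N • t)).mpr hN
    refine ⟨N + n, t', hinj D ?_⟩
    change ε.app (X.basicOpen f) _ = ε.app (X.basicOpen f) _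
    rw [hres]
    have ht'' : ε.app U t' = f ^ N • t := ht'
    rw [ht'', res_smul, ht, Scheme.Modules.Hom.app_smul, map_pow, pow_add, mul_smul]
  · obtain ⟨n, hn⟩ := hFU.eq_zero f (ε.app U t) (by rw [← hres, ht, map_zero])
    refine ⟨n, hinj ⟨U, hU⟩ ?_⟩
    change ε.app U _ = ε.app U _
    rw [Scheme.Modules.Hom.app_smul, hn, map_zero]

end K593.TorsionQC
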